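import Cfsg.Agent.Omega.IId.SymWrD.SylN.Two
import Cfsg.Agent.Omega.IId.SymWrD.Ht.Fr

/-!
# II.d, `SwCv`, T-T, `D` arbitrary: LEMMA 1_D, LEMMA 2_D for the frame `SymWrD.Ht.Fr`
-/

set_option autoImplicit false

namespace Cfsg.Agent.Omega.IId.SymWrD

open Subgroup Cfsg Cfsg.Agent.Omega.FFThm

universe u

variable {G : Type u} [Group G] {P V D : Subgroup G} {k m : ℕ}

/-- `SD` from 916's frame -/
theorem SD.of_fr [Finite G] {S : Sylow 2 G} {M : SymK (S : Subgroup G) P V ⊥ k m} (h : Ht.Fr S P V D M) :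
    SD S P V M where
  toSit := h.toSit
  c2 := h.char2
  QP _ _ hpq hne := h.Qle hpq hne
  Qpp _ _ hpq hne _ hx := h.Qpp hpq hne hx
  VQ _ _ hpq hne := h.V_le hpq hne
  par _ _ hpq hne := by
    obtain ⟨w, hw, -, hwp⟩ := h.exists_w hpq hne
    exact ⟨w, hw, hwp⟩

end Cfsg.Agent.Omega.IId.SymWrD
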